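import Cfsg.Agent.H7.HeE7.T

set_option autoImplicit false
set_option linter.unusedVariables false
set_option maxRecDepth 100000
set_option Elab.async false

namespace CfsgH7.He.E7

theorem c0 : TC.rowsOk T 528 7 RT 36 41 50481 7 0 93 = true := by decide +kernel
theorem c93 : TC.rowsOk T 528 7 RT 36 41 50481 7 93 90 = true := by decide +kernel
theorem c183 : TC.rowsOk T 528 7 RT 36 41 50481 7 183 91 = true := by decide +kernel
theorem c274 : TC.rowsOk T 528 7 RT 36 41 50481 7 274 89 = true := by decide +kernel
theorem c363 : TC.rowsOk T 528 7 RT 36 41 50481 7 363 84 = true := by decide +kernel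

end CfsgH7.He.E7
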