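import Cfsg.Agent.H7.HeE7.T

set_option autoImplicit false
set_option linter.unusedVariables false
set_option maxRecDepth 100000
set_option Elab.async false

namespace CfsgH7.He.E7

theorem c447 : TC.rowsOk T 528 7 RT 36 41 50481 7 447 83 = true := by decide +kernel
theorem c530 : TC.rowsOk T 528 7 RT 36 41 50481 7 530 78 = true := by decide +kernel
theorem c608 : TC.rowsOk T 528 7 RT 36 41 50481 7 608 76 = true := by decide +kernel
theorem c684 : TC.rowsOk T 528 7 RT 36 41 50481 7 684 72 = true := by decide +kernel
theorem c756 : TC.rowsOk T 528 7 RT 36 41 50481 7 756 33 = true := by decide +kernel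
theorem n0 : TC.cntLive T 528 7 50481 0 789 = 49980 := by decide +kernel

end CfsgH7.He.E7
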