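import Cfsg.Agent.H7.He.A
import Cfsg.Agent.H7.HeE7.C0
import Cfsg.Agent.H7.HeE7.C1

set_option autoImplicit false
set_option linter.unusedVariables false
set_option maxRecDepth 100000
set_option Elab.async false

namespace CfsgH7.He.E7

theorem a93 : ∀ c < 50481, c < 64 * 93 → TC.rowOk T 528 7 RT 36 41 50481 7 c = true :=
  TC.rows_step TC.rows_zero c0 rfl
theorem a183 : ∀ c < 50481, c < 64 * 183 → TC.rowOk T 528 7 RT 36 41 50481 7 c = true :=
  TC.rows_step a93 c93 rfl
theorem a274 : ∀ c < 50481, c < 64 * 274 → TC.rowOk T 528 7 RT 36 41 50481 7 c = true :=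
  TC.rows_step a183 c183 rfl
theorem a363 : ∀ c < 50481, c < 64 * 363 → TC.rowOk T 528 7 RT 36 41 50481 7 c = true :=
  TC.rows_step a274 c274 rfl
theorem a447 : ∀ c < 50481, c < 64 * 447 → TC.rowOk T 528 7 RT 36 41 50481 7 c = true :=
  TC.rows_step a363 c363 rfl
theorem a530 : ∀ c < 50481, c < 64 * 530 → TC.rowOk T 528 7 RT 36 41 50481 7 c = true :=
  TC.rows_step a447 c447 rfl
theorem a608 : ∀ c < 50481, c < 64 * 608 → TC.rowOk T 528 7 RT 36 41 50481 7 c = true :=
  TC.rows_step a530 c530 rfl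
theorem a684 : ∀ c < 50481, c < 64 * 684 → TC.rowOk T 528 7 RT 36 41 50481 7 c = true :=
  TC.rows_step a608 c608 rfl
theorem a756 : ∀ c < 50481, c < 64 * 756 → TC.rowOk T 528 7 RT 36 41 50481 7 c = true :=
  TC.rows_step a684 c684 rfl
theorem a789 : ∀ c < 50481, c < 64 * 789 → TC.rowOk T 528 7 RT 36 41 50481 7 c = true :=
  TC.rows_step a756 c756 rfl
theorem b789 : (TC.liveSet T 528 7 50481 789).card = 49980 :=
  TC.live_step TC.live_zero n0 rfl rfl
theorem enum : Enum He.R7 S 7 49980 T 528 7 :=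
  TC.enum (RT := RT) (nR := 36) (nS := 41) (by norm_num) (by norm_num) (by norm_num)
    (by decide +kernel) a789 b789

end CfsgH7.He.E7
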